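import Cfsg.Agent.H628.BalTwF4
import Cfsg.Agent.H216.Pi.Base
import Cfsg.Agent.H176.Pi.FieldGen

/-!
# S4324, `²F₄(q)`: outer automorphisms of odd prime order (helper826)

`outer_false`: an outer automorphism `x` of odd prime order of `²F₄(q)`, `q > 2`, has six conjugates generating a
group which contains all inner automorphisms.
-/

set_option autoImplicit false

universe u v

namespace Cfsg.Agent.H826.TF

open Subgroup Cfsg Cfsg.Lie
open Cfsg.Agent.KFacts.TwF4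
open Cfsg.Agent.KFacts.TwF4.Arc (mem_X0 mem_X1 mem_X8 mem_X9 char2 o_inv e_inv e_sq s1_surj)
open Cfsg.Agent.H216.Pi (cj FC)

section field

variable {F : Type*} [Field F] [Finite F]

/-- an additive subgroup stable under `g / τ g`, `g` a generator, is everything -/
theorem add_top (τ : F ≃+* F) (hτ : τ ≠ 1) (g : Fˣ) (hg : ∀ x, x ∈ zpowers g) (A : AddSubgroup F) {a : F}
    (ha : a ∈ A) (ha0 : a ≠ 0) (hl : ∀ b ∈ A, ((g : F) / τ g) * b ∈ A) (x : F) : x ∈ A := by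
  have h1 := H176.Pi.FieldGen.orderOf_quot τ g hg
  have h2 := H967.CopMat.card_Fx τ
  have h3 : 1 < Nat.card ↥(H967.CopMat.Fx τ) := Finite.one_lt_card
  have h4 : Finite (F ≃+* F) := Finite.of_injective (fun e : F ≃+* F => (e : F → F)) DFunLike.coe_injective
  have h5 : 0 < orderOf τ := orderOf_pos τ
  have h6 : orderOf τ ≠ 1 := fun h => hτ (orderOf_eq_one_iff.1 h)
  have h7 : Nat.card ↥(H967.CopMat.Fx τ) ^ 2 ≤ Nat.card F := by
    rw [h2]; exact Nat.pow_le_pow_right (by omega) (by omega)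
  have h8 : A ≠ ⊥ := by
    rintro rfl
    exact ha0 (AddSubgroup.mem_bot.1 ha)
  have h9 := H176.Pi.FieldGen.add_top h3 h7 h1 A h8 hl
  rw [h9]; exact AddSubgroup.mem_top x

end field

section abs

variable {F : Type*} [Field F] [Finite F] {θ : F →+* F} {G : Type u} [Group G] (S : Full θ G)
variable {τ : F ≃+* F} {ψ : MulAut G}

omit [Finite F] in
theorem cj_mul_inv (k : G) : cj ψ k * (cj ψ 1)⁻¹ = MulAut.conj (k * (ψ k)⁻¹) := by
  rw [H216.Pi.cj_one]
  ext a
  simp only [cj, MulAut.mul_apply, MulAut.conj_apply, map_mul, map_inv, mul_inv_rev, inv_inv, MulAut.conj_inv_apply,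
    MulAut.apply_inv_self]


omit [Finite F] in
/-- the action on the odd root groups -/
theorem act_o (ho : ∀ a t, ψ (S.o a t) = S.o a (τ t)) (c d : Fˣ) (a : ZMod 8) (t : F) :
    (S.h c d * (ψ (S.h c d))⁻¹) * S.o a t * (S.h c d * (ψ (S.h c d))⁻¹)⁻¹ =
      S.o a (((chO θ a c d : F) / τ (chO θ a c d : F)) * t) := by
  have h1 : ∀ s, ψ (S.h c d) * S.o a s * (ψ (S.h c d))⁻¹ = S.o a (τ (chO θ a c d : F) * s) := by
    intro s
    obtain ⟨r, rfl⟩ := τ.surjective s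
    rw [← ho, ← map_mul, ← map_inv, ← map_mul, S.h_o, ho, map_mul]
  have hu : τ (chO θ a c d : F) ≠ 0 := (map_ne_zero τ).2 (Units.ne_zero _)
  have h2 : (ψ (S.h c d))⁻¹ * S.o a t * ψ (S.h c d) = S.o a ((τ (chO θ a c d : F))⁻¹ * t) := by
    have := h1 ((τ (chO θ a c d : F))⁻¹ * t)
    rw [mul_inv_cancel_left₀ hu] at this
    rw [← this]; group
  calc _ = S.h c d * ((ψ (S.h c d))⁻¹ * S.o a t * ψ (S.h c d)) * (S.h c d)⁻¹ := by group
    _ = _ := by
      rw [h2, S.h_o]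
      congr 1
      rw [div_eq_mul_inv]; ring

omit [Finite F] in
/-- the action on the even root groups -/
theorem act_e (he : ∀ a p u, ψ (S.e a p u) = S.e a (τ p) (τ u)) (c d : Fˣ) (a : ZMod 8) (p u : F) :
    (S.h c d * (ψ (S.h c d))⁻¹) * S.e a p u * (S.h c d * (ψ (S.h c d))⁻¹)⁻¹ =
      S.e a (((chE θ a c d : F) / τ (chE θ a c d : F)) * p)
        ((((chE θ a c d : F) * θ (chE θ a c d : F)) / τ ((chE θ a c d : F) * θ (chE θ a c d : F))) * u) := by
  set χ : F := (chE θ a c d : F) with hχ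
  have hχ0 : χ ≠ 0 := Units.ne_zero _
  have h1 : ∀ r s, ψ (S.h c d) * S.e a r s * (ψ (S.h c d))⁻¹ = S.e a (τ χ * r) (τ (χ * θ χ) * s) := by
    intro r s
    obtain ⟨r, rfl⟩ := τ.surjective r
    obtain ⟨s, rfl⟩ := τ.surjective s
    rw [← he, ← map_mul, ← map_inv, ← map_mul, S.h_e, he, ← map_mul, ← map_mul]
  have hu : τ χ ≠ 0 := (map_ne_zero τ).2 hχ0
  have hv : τ (χ * θ χ) ≠ 0 := (map_ne_zero τ).2 (mul_ne_zero hχ0 ((map_ne_zero θ).2 hχ0))
  have h2 : (ψ (S.h c d))⁻¹ * S.e a p u * ψ (S.h c d) = S.e a ((τ χ)⁻¹ * p) ((τ (χ * θ χ))⁻¹ * u) := by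
    have := h1 ((τ χ)⁻¹ * p) ((τ (χ * θ χ))⁻¹ * u)
    rw [mul_inv_cancel_left₀ hu, mul_inv_cancel_left₀ hv] at this
    rw [← this]; group
  calc _ = S.h c d * ((ψ (S.h c d))⁻¹ * S.e a p u * ψ (S.h c d)) * (S.h c d)⁻¹ := by group
    _ = _ := by
      rw [h2, S.h_e, ← hχ]
      congr 1 <;> rw [div_eq_mul_inv] <;> ring

/-- odd root groups -/
theorem o_all (ho : ∀ a t, ψ (S.o a t) = S.o a (τ t)) (hτ : τ ≠ 1) {D : Subgroup G} {c d : Fˣ}
    (hD : S.h c d * (ψ (S.h c d))⁻¹ ∈ D) {a : ZMod 8} (hg : ∀ x, x ∈ zpowers (chO θ a c d)) {b : F} (hb : b ≠ 0)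
    (hbD : S.o a b ∈ D) (t : F) : S.o a t ∈ D := by
  let A : AddSubgroup F :=
    { carrier := {t | S.o a t ∈ D}
      add_mem' := fun {x y} hx hy => by
        show S.o a (x + y) ∈ D
        rw [← S.o_add]; exact D.mul_mem hx hy
      zero_mem' := by
        show S.o a 0 ∈ D
        rw [S.o_zero]; exact D.one_mem
      neg_mem' := fun {x} hx => by
        show S.o a (-x) ∈ D
        have h2 : -x = x := by rw [neg_eq_iff_add_eq_zero, char2 S]
        rw [h2]; exact hx }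
  refine add_top τ hτ _ hg A (a := b) hbD hb ?_ t
  intro s hs
  show S.o a _ ∈ D
  rw [← act_o S ho]
  exact D.mul_mem (D.mul_mem hD hs) (D.inv_mem hD)

/-- even root groups -/
theorem e_all (he : ∀ a p u, ψ (S.e a p u) = S.e a (τ p) (τ u)) (hτ : τ ≠ 1) {D : Subgroup G} {c d : Fˣ}
    (hD : S.h c d * (ψ (S.h c d))⁻¹ ∈ D) {a : ZMod 8} (hg : ∀ x, x ∈ zpowers (chE θ a c d)) {b b' : F} (hb : b ≠ 0)
    (hbD : S.e a b b' ∈ D) (p u : F) : S.e a p u ∈ D := by
  -- the centre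
  have hz : ∀ u, S.e a 0 u ∈ D := by
    let A : AddSubgroup F :=
      { carrier := {t | S.e a 0 t ∈ D}
        add_mem' := fun {x y} hx hy => by
          show S.e a 0 (x + y) ∈ D
          have : S.e a 0 (x + y) = S.e a 0 x * S.e a 0 y := by rw [S.e_mul, map_zero, mul_zero, add_zero, add_zero]
          rw [this]; exact D.mul_mem hx hy
        zero_mem' := by
          show S.e a 0 0 ∈ D
          rw [S.e_zero]; exact D.one_mem
        neg_mem' := fun {x} hx => by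
          show S.e a 0 (-x) ∈ D
          have h2 : -x = x := by rw [neg_eq_iff_add_eq_zero, char2 S]
          rw [h2]; exact hx }
    have hg' : ∀ x, x ∈ zpowers (chE θ a c d * Units.map (θ : F →* F) (chE θ a c d)) := by
      intro x
      obtain ⟨y, rfl⟩ := s1_surj S x
      obtain ⟨k, rfl⟩ := mem_zpowers_iff.1 (hg y)
      exact mem_zpowers_iff.2 ⟨k, by rw [mul_zpow, map_zpow]⟩
    intro u
    refine add_top τ hτ _ hg' A (a := b * θ b) ?_ (mul_ne_zero hb ((map_ne_zero θ).2 hb)) ?_ u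
    · show S.e a 0 (b * θ b) ∈ D
      rw [← e_sq S a b b']; exact D.mul_mem hbD hbD
    · intro s hs
      show S.e a 0 _ ∈ D
      have := act_e S he c d a 0 s
      rw [mul_zero] at this
      rw [Units.val_mul, Units.coe_map, MonoidHom.coe_coe, ← this]
      exact D.mul_mem (D.mul_mem hD hs) (D.inv_mem hD)
  have hp : ∃ v, S.e a p v ∈ D := by
    let A : AddSubgroup F :=
      { carrier := {t | ∃ v, S.e a t v ∈ D}
        add_mem' := fun {x y} ⟨v, hx⟩ ⟨w, hy⟩ => by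
          have h2 := D.mul_mem hx hy
          rw [S.e_mul] at h2
          exact ⟨_, h2⟩
        zero_mem' := ⟨0, by rw [S.e_zero]; exact D.one_mem⟩
        neg_mem' := fun {x} ⟨v, hx⟩ => by
          refine ⟨v, ?_⟩
          have h2 : -x = x := by rw [neg_eq_iff_add_eq_zero, char2 S]
          rw [h2]; exact hx }
    refine add_top τ hτ _ hg A (a := b) ⟨b', hbD⟩ hb ?_ p
    rintro s ⟨v, hs⟩
    have h2 := D.mul_mem (D.mul_mem hD hs) (D.inv_mem hD)
    rw [act_e S he c d a s v] at h2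
    exact ⟨_, h2⟩
  obtain ⟨v, hv⟩ := hp
  have h3 : S.e a p u = S.e a p v * S.e a 0 (v + u) := by
    rw [S.e_mul, map_zero, mul_zero, add_zero, add_zero, ← add_assoc, char2 S, zero_add]
  rw [h3]; exact D.mul_mem hv (hz _)

/-- **six conjugates of a field automorphism of `²F₄(q)` generate a group containing the inner automorphisms** -/
theorem inC_six (ho : ∀ a t, ψ (S.o a t) = S.o a (τ t)) (he : ∀ a p u, ψ (S.e a p u) = S.e a (τ p) (τ u))
    (hτ : τ ≠ 1) (z : G) : H216.Pi.InC 6 ψ (MulAut.conj z) := by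
  classical
  obtain ⟨c, hc⟩ : ∃ c, τ c ≠ c := by
    by_contra h
    push Not at h
    exact hτ (RingEquiv.ext h)
  obtain ⟨γ, hγ⟩ := IsCyclic.exists_generator (α := Fˣ)
  set f : Fin 6 → G := ![1, S.h γ 1, S.o 0 c, S.o 4 c, S.e 0 c 0, S.e 4 c 0] with hf
  refine ⟨f, ?_⟩
  set H := closure (Set.range fun i => cj ψ (f i)) with hH
  have hi : ∀ i, cj ψ (f i) ∈ H := fun i => subset_closure ⟨i, rfl⟩
  set D : Subgroup G := H.comap MulAut.conj with hD
  have hd : ∀ i, f i * (ψ (f i))⁻¹ ∈ D := by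
    intro i
    show MulAut.conj _ ∈ H
    rw [← cj_mul_inv]
    exact H.mul_mem (hi i) (H.inv_mem (hi 0))
  have hh : S.h γ 1 * (ψ (S.h γ 1))⁻¹ ∈ D := hd 1
  have hcc : c + τ c ≠ 0 := by
    intro h
    apply hc
    have h1 : c + τ c = c + c := by rw [h, char2 S]
    exact add_left_cancel h1
  have oo : ∀ a, S.o a c * (ψ (S.o a c))⁻¹ = S.o a (c + τ c) := by
    intro a
    rw [ho, o_inv, S.o_add]
  have ee : ∀ a, ∃ v, S.e a c 0 * (ψ (S.e a c 0))⁻¹ = S.e a (c + τ c) v := by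
    intro a
    rw [he, e_inv, S.e_mul]
    exact ⟨_, rfl⟩
  have gi : ∀ x, x ∈ zpowers γ⁻¹ := by
    intro x
    rw [zpowers_inv]; exact hγ x
  have o0 : ∀ t, S.o 0 t ∈ D := by
    refine o_all S ho hτ hh (a := 0) ?_ hcc (by rw [← oo]; exact hd 2)
    have : chO θ 0 γ 1 = γ := by
      show chE θ 0 γ 1 * chE θ 1 γ 1 = γ
      rw [chE_zero, chE_one, mul_one]
    rw [this]; exact hγ
  have o4 : ∀ t, S.o 4 t ∈ D := by
    refine o_all S ho hτ hh (a := 4) ?_ hcc (by rw [← oo]; exact hd 3)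
    have : chO θ 4 γ 1 = γ⁻¹ := by
      show chE θ 4 γ 1 * chE θ 5 γ 1 = γ⁻¹
      rw [chE_four, chE_five, inv_one, mul_one]
    rw [this]; exact gi
  have e0 : ∀ p u, S.e 0 p u ∈ D := by
    obtain ⟨v, hv⟩ := ee 0
    refine e_all S he hτ hh (a := 0) ?_ hcc (b' := v) (by rw [← hv]; exact hd 4)
    rw [chE_zero]; exact hγ
  have e4 : ∀ p u, S.e 4 p u ∈ D := by
    obtain ⟨v, hv⟩ := ee 4
    refine e_all S he hτ hh (a := 4) ?_ hcc (b' := v) (by rw [← hv]; exact hd 5)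
    rw [chE_four]; exact gi
  have hT : D = ⊤ := by
    apply Inv.eq_top_of S
    · intro x hx
      obtain ⟨p, u, rfl⟩ := (mem_X0 S).1 hx
      exact e0 p u
    · intro x hx
      obtain ⟨t, rfl⟩ := (mem_X1 S).1 hx
      exact o0 t
    · intro x hx
      obtain ⟨p, u, rfl⟩ := (mem_X8 S).1 hx
      exact e4 p u
    · intro x hx
      obtain ⟨t, rfl⟩ := (mem_X9 S).1 hx
      exact o4 t
  have : z ∈ D := hT ▸ mem_top z
  exact this

end abs

open Cfsg.Agent.ChevalleyStructure.TwF4.TwistedFix (exists_rln) in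
/-- **the row `²F₄(q)` of S4324 for outer automorphisms** -/
theorem outer_false {K : Type u} [Field K] [Fintype K] {m : ℕ} (hm : 1 ≤ m) (hK : Fintype.card K = 2 ^ (2 * m + 1))
    {p s : ℕ} (hp : p.Prime) (hp2 : p ≠ 2) (hs : s.Prime) (hsK : s ∣ Nat.card ↥(Cfsg.Lie.twistedF4 K (2 ^ m)))
    (x : MulAut ↥(Cfsg.Lie.twistedF4 K (2 ^ m))) (hx : orderOf x = p) (hni : ¬ ∃ g, x = MulAut.conj g)
    (h : H216.Pi.FC s 8 x) : False := by
  have hch : CharP K 2 := Cfsg.Agent.ChevalleyStructure.TwF4.Twisted.charP_two hK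
  obtain ⟨σ, j, s', i, δ, -, -, hi, he⟩ := H628.BalTwF4.exists_std hK hm hp hp2 x hx hni
  obtain ⟨φ, hφ⟩ := exists_rln hK
  have h1 : H216.Pi.FC s 8 (x ^ i) := H216.Pi.FC.of_inC (l := 8) (k := 1) h ((H216.Pi.InC.self x).pow i)
  have h2 := h1.tr δ⁻¹
  rw [H216.Pi.tr_mulAut, he] at h2
  have h3 : δ⁻¹ * (δ * S2128.fld σ (2 ^ m) * δ⁻¹) * δ⁻¹⁻¹ = S2128.fld σ (2 ^ m) := by group
  rw [h3] at h2
  have hσ : σ ≠ 1 := by
    rintro rfl
    rw [Cfsg.Agent.H628.ZTwF4Out.fldF_one, mul_one, mul_inv_cancel] at he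
    have h4 := orderOf_dvd_of_pow_eq_one he
    rw [hx] at h4
    have h5 := Nat.Coprime.eq_one_of_dvd hi.symm h4
    exact hp.one_lt.ne' h5
  have hsimp := S1072.result hm hK
  have hsi : IsSimpleGroup ↥(Cfsg.Lie.twistedF4 K (2 ^ m)) := hsimp.1
  have hZ : center ↥(Cfsg.Lie.twistedF4 K (2 ^ m)) = ⊥ := by
    rcases hsi.eq_bot_or_eq_top_of_normal (center _) inferInstance with h4 | h4
    · exact h4
    · exact absurd ⟨⟨fun a b => (mem_center_iff.1 (h4 ▸ mem_top b : b ∈ center _) a)⟩⟩ hsimp.2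
  have : Fact s.Prime := ⟨hs⟩
  obtain ⟨z, hz⟩ := exists_prime_orderOf_dvd_card' s hsK
  have h5 := inC_six (Cfsg.Agent.KFacts.TwF4.Inst.full hK hφ) (ψ := S2128.fld σ (2 ^ m)) (τ := σ)
    (fun a t => S2128.fld_ro _ hφ a t) (fun a q u => S2128.fld_re _ hφ a q u) hσ z
  refine h2 _ (h5.mono (by norm_num)) ?_
  have h6 : orderOf (MulAut.conj z) = s := by
    refine orderOf_eq_prime ?_ ?_
    · rw [← map_pow, ← hz, pow_orderOf_eq_one, map_one]
    · intro h7
      have h8 : z ∈ center ↥(Cfsg.Lie.twistedF4 K (2 ^ m)) := by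
        rw [mem_center_iff]
        intro g
        have h9 := congrArg (fun e : MulAut _ => e g) h7
        simp only [MulAut.conj_apply, MulAut.one_apply] at h9
        exact (mul_inv_eq_iff_eq_mul.1 h9).symm
      rw [hZ, mem_bot] at h8
      rw [h8, orderOf_one] at hz
      exact hs.one_lt.ne hz
  rw [h6]

end Cfsg.Agent.H826.TF
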